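import Groth.Prelude.Def_EtGm
import Groth.Agent.Lib.EtSite.Sheaf
import Mathlib.RingTheory.Etale.StandardEtale

/-!
# The Kummer sequence
-/

universe u

set_option maxHeartbeats 400000

open CategoryTheory CategoryTheory.Limits AlgebraicGeometry Opposite Polynomial

namespace Groth.Agent.Kummer24

open Groth.Agent.EtSite

variable {A : Type u} [CommRing A]

/-- The standard étale pair of an `n`-th root of a unit. -/
noncomputable def rootPair (n : ℕ) (hn : n ≠ 0) (hu : IsUnit (n : A)) (a : Aˣ) : StandardEtalePair A where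
  f := X ^ n - C (a : A)
  monic_f := monic_X_pow_sub_C _ hn
  g := 1
  cond := by
    obtain ⟨m, rfl⟩ := Nat.exists_eq_add_one.2 (Nat.pos_of_ne_zero hn)
    refine ⟨C (((hu.unit⁻¹ : Aˣ) : A) * ((a⁻¹ : Aˣ) : A)) * X, -C ((a⁻¹ : Aˣ) : A), 0, ?_⟩
    have h1 : C ((m + 1 : ℕ) : A) * C ((hu.unit⁻¹ : Aˣ) : A) = (1 : A[X]) := by
      rw [← C_mul, hu.mul_val_inv, C_1]
    have h2 : C (a : A) * C ((a⁻¹ : Aˣ) : A) = (1 : A[X]) := by
      rw [← C_mul, a.mul_inv, C_1]
    rw [derivative_sub, derivative_X_pow, derivative_C, sub_zero, Nat.add_sub_cancel, C_mul,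
      pow_zero]
    linear_combination (X ^ (m + 1) * C (↑a⁻¹ : A)) * h1 + h2

theorem surjective_rootPair (n : ℕ) (hn : n ≠ 0) (hu : IsUnit (n : A)) (a : Aˣ) :
    Surjective (Spec.map (CommRingCat.ofHom (algebraMap A (rootPair n hn hu a).Ring))) := by
  refine ⟨fun p => ?_⟩
  let P := rootPair n hn hu a
  let K := AlgebraicClosure p.asIdeal.ResidueField
  letI : Algebra A K := ((algebraMap p.asIdeal.ResidueField K).comp (algebraMap A p.asIdeal.ResidueField)).toAlgebra
  obtain ⟨x, hx⟩ := IsAlgClosed.exists_pow_nat_eq (k := K) (algebraMap A K a) (Nat.pos_of_ne_zero hn)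
  have h : P.HasMap x := ⟨by simp [P, rootPair, hx], by simp [P, rootPair]⟩
  let φ := P.lift x h
  have e : φ.toRingHom.comp (algebraMap A P.Ring) =
      (algebraMap p.asIdeal.ResidueField K).comp (algebraMap A p.asIdeal.ResidueField) :=
    φ.comp_algebraMap
  refine ⟨⟨RingHom.ker φ.toRingHom, RingHom.ker_isPrime _⟩, PrimeSpectrum.ext ?_⟩
  show (RingHom.ker φ.toRingHom).comap (algebraMap A P.Ring) = p.asIdeal
  refine (RingHom.comap_ker _ _).trans ?_
  rw [e, RingHom.ker_comp_of_injective _ (algebraMap p.asIdeal.ResidueField K).injective]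
  exact Ideal.ker_algebraMap_residueField _

variable {S : Scheme.{u}}

theorem powMap_apply (n : ℕ) {V : S.Etale} (b : (EtCoh.Gm S).obj.obj (op V)) :
    (EtCoh.powMap S n).hom.app (op V) b = n • b := by
  induction n with
  | zero => simp [EtCoh.powMap]
  | succ k ih =>
    have : EtCoh.powMap S (k + 1) = EtCoh.powMap S k + 𝟙 _ := by simp [EtCoh.powMap, succ_nsmul]
    rw [this, succ_nsmul, ← ih]
    rfl

theorem isLocallySurjective_powMap (n : ℕ) (hn : IsUnit (n : Γ(S, ⊤))) :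
    Sheaf.IsLocallySurjective (EtCoh.powMap S n) := by
  refine ⟨fun {V} s => ?_⟩
  rw [mem_et_iff]
  intro x
  obtain ⟨W, hW, hxW, -⟩ := exists_isAffineOpen_mem_and_subset (U := (⊤ : V.left.Opens)) (x := x) trivial
  let j : Spec Γ(V.left, W) ⟶ V.left := hW.fromSpec
  let r : Γ(V.left, ⊤) ⟶ Γ(V.left, W) := j.appTop ≫ (Scheme.ΓSpecIso _).hom
  let s' : Γ(V.left, ⊤)ˣ := Additive.toMul s.down
  let a : Γ(V.left, W)ˣ := Units.map r.hom.toMonoidHom s'
  have hu : IsUnit (n : Γ(V.left, W)) := by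
    have := hn.map (V.hom.appTop ≫ r).hom
    rwa [map_natCast] at this
  obtain ⟨z, hz⟩ : x ∈ Set.range j := hW.range_fromSpec.ge hxW
  have hn0 : n ≠ 0 := by
    rintro rfl
    rw [Nat.cast_zero, isUnit_zero_iff] at hu
    exact z.2.ne_top ((Ideal.eq_top_iff_one _).mpr (hu ▸ z.asIdeal.zero_mem))
  let P := rootPair n hn0 hu a
  let φ : Γ(V.left, W) ⟶ CommRingCat.of P.Ring := CommRingCat.ofHom (algebraMap Γ(V.left, W) P.Ring)
  haveI : AlgebraicGeometry.Etale (Spec.map φ) :=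
    HasRingHomProperty.Spec_iff.2 (RingHom.etale_algebraMap.2 inferInstance)
  let g : V.left ⟶ S := V.hom
  haveI : AlgebraicGeometry.Etale g := V.prop
  let Y : S.Etale := Scheme.Etale.mk ((Spec.map φ ≫ j) ≫ g)
  let f : Y ⟶ V := MorphismProperty.Over.homMk (Spec.map φ ≫ j) rfl
  obtain ⟨y, hy⟩ := (surjective_rootPair n hn0 hu a).surj z
  refine ⟨Y, f, y, ?_, by
    show (Spec.map φ ≫ j) y = x
    rw [Scheme.Hom.comp_apply]
    exact (congrArg j hy).trans hz⟩
  have hX : P.X ^ n = φ a := by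
    have h := (StandardEtalePair.hasMap_X (P := P)).1
    change aeval P.X (X ^ n - C (a : Γ(V.left, W))) = 0 at h
    rw [map_sub, map_pow, aeval_C, sub_eq_zero] at h
    erw [aeval_X] at h
    exact h
  have hunit : IsUnit P.X := (isUnit_pow_iff hn0).mp (hX ▸ a.isUnit.map φ.hom)
  let b : Γ(Y.left, ⊤)ˣ := Units.map (Scheme.ΓSpecIso (CommRingCat.of P.Ring)).inv.hom.toMonoidHom hunit.unit
  refine ⟨ULift.up (Additive.ofMul b), (powMap_apply n _).trans (ULift.ext _ _ ?_)⟩
  show n • Additive.ofMul b = Additive.ofMul (Units.map (Spec.map φ ≫ j).appTop.hom.toMonoidHom s')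
  rw [← ofMul_pow]
  refine congrArg Additive.ofMul (Units.ext ?_)
  show (Scheme.ΓSpecIso (CommRingCat.of P.Ring)).inv hunit.unit.val ^ n = (Spec.map φ ≫ j).appTop s'.val
  have e : r ≫ φ ≫ (Scheme.ΓSpecIso (CommRingCat.of P.Ring)).inv = (Spec.map φ ≫ j).appTop := by
    rw [Scheme.Hom.comp_appTop, Category.assoc, Scheme.ΓSpecIso_inv_naturality, Iso.hom_inv_id_assoc]
  rw [← map_pow, hunit.unit_spec, hX, ← e]
  rfl

end Groth.Agent.Kummer24
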