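import Groth.Prelude.Def_EtGm
import Groth.Agent.Lib.EtSite.Sheaf
import Mathlib.CategoryTheory.Sites.EpiMono
import Mathlib.RingTheory.Polynomial.Cyclotomic.Roots

/-!
# `μ_n` is constant in the presence of a primitive root of unity
-/

universe u

set_option maxHeartbeats 400000

open CategoryTheory CategoryTheory.Limits AlgebraicGeometry Opposite Polynomial

namespace Groth.Agent.Kummer24

open Groth.Agent.EtSite

variable {S : Scheme.{u}} {n : ℕ}

/-- A unit as a section of `G_m`. -/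
noncomputable def sec (V : S.Etale) (a : Γ(V.left, ⊤)ˣ) : (EtCoh.Gm S).obj.obj (op V) :=
  ULift.up (Additive.ofMul a)

theorem sec_injective (V : S.Etale) : Function.Injective (sec V) := fun _ _ h =>
  Additive.ofMul.injective (congrArg ULift.down h)

theorem sec_pow (V : S.Etale) (a : Γ(V.left, ⊤)ˣ) (i : ℕ) : sec V (a ^ i) = i • sec V a :=
  ULift.ext _ _ (ofMul_pow i a)

theorem sec_one (V : S.Etale) : sec V 1 = 0 := rfl

theorem exists_sec (V : S.Etale) (s : (EtCoh.Gm S).obj.obj (op V)) : ∃ a, sec V a = s :=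
  ⟨Additive.toMul s.down, rfl⟩

/-- Restriction of units. -/
noncomputable def resU {V W : S.Etale} (f : V ⟶ W) : Γ(W.left, ⊤)ˣ →* Γ(V.left, ⊤)ˣ :=
  Units.map f.left.appTop.hom.toMonoidHom

theorem res_sec {V W : S.Etale} (f : V ⟶ W) (a : Γ(W.left, ⊤)ˣ) :
    (EtCoh.Gm S).obj.map f.op (sec W a) = sec V (resU f a) := rfl

theorem powMap_sec (V : S.Etale) (a : Γ(V.left, ⊤)ˣ) (k : ℕ) :
    (EtCoh.powMap S k).hom.app (op V) (sec V a) = sec V (a ^ k) := by
  induction k with
  | zero => rw [pow_zero, sec_one]; simp [EtCoh.powMap]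
  | succ j ih =>
    have : EtCoh.powMap S (j + 1) = EtCoh.powMap S j + 𝟙 _ := by simp [EtCoh.powMap, succ_nsmul]
    rw [this, sec_pow, succ_nsmul, ← sec_pow, ← ih]
    rfl

variable (hn : 1 ≤ n) (hunit : IsUnit (n : Γ(S, ⊤))) (ζ : Γ(S, ⊤))
  (hζ : Polynomial.aeval ζ (Polynomial.cyclotomic n ℤ) = 0)

include hζ in
theorem zeta_pow : ζ ^ n = 1 := by
  obtain ⟨q, hq⟩ := Polynomial.cyclotomic.dvd_X_pow_sub_one n ℤ
  have h := congrArg (Polynomial.aeval ζ) hq
  rw [map_mul, hζ, zero_mul, map_sub, map_pow, map_one, aeval_X, sub_eq_zero] at h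
  exact h

/-- The root of unity on an étale scheme over `S`, as a unit. -/
noncomputable def zetaU (V : S.Etale) : Γ(V.left, ⊤)ˣ :=
  Units.map V.hom.appTop.hom.toMonoidHom
    (Units.ofPowEqOne ζ n (zeta_pow ζ hζ) (Nat.one_le_iff_ne_zero.mp hn))

theorem zetaU_pow (V : S.Etale) : zetaU hn ζ hζ V ^ n = 1 := by
  rw [zetaU, ← map_pow]
  rw [Units.pow_ofPowEqOne, map_one]

theorem resU_zetaU {V W : S.Etale} (f : V ⟶ W) :
    resU f (zetaU hn ζ hζ W) = zetaU hn ζ hζ V := by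
  refine Units.ext ?_
  show f.left.appTop (W.hom.appTop ζ) = V.hom.appTop ζ
  rw [← CommRingCat.comp_apply, ← Scheme.Hom.comp_appTop, MorphismProperty.Over.w f]

include hunit in
theorem isPrimitiveRoot_eval (V : S.Etale) (x : V.left) :
    IsPrimitiveRoot (V.left.Γevaluation x (zetaU hn ζ hζ V : Γ(V.left, ⊤))) n := by
  let ev : Γ(S, ⊤) →+* V.left.residueField x := (V.hom.appTop ≫ V.left.Γevaluation x).hom
  haveI : NeZero (n : V.left.residueField x) := ⟨by
    have := (hunit.map ev).ne_zero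
    rwa [map_natCast] at this⟩
  rw [← isRoot_cyclotomic_iff, IsRoot.def]
  show ((cyclotomic n (V.left.residueField x))).eval (ev ζ) = 0
  rw [← map_cyclotomic_int, eval_map]
  have h := congrArg ev hζ
  rw [map_zero] at h
  refine Eq.trans ?_ h
  rw [aeval_def, hom_eval₂]
  congr 1
  exact RingHom.ext_int _ _

/-- The homomorphism `ℤ/n → G_m(V)` given by the root of unity. -/
noncomputable def mapV (V : S.Etale) : ULift.{u + 1} (ZMod n) →+ (EtCoh.Gm S).obj.obj (op V) :=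
  (ZMod.lift n ⟨zmultiplesHom ((EtCoh.Gm S).obj.obj (op V)) (sec V (zetaU hn ζ hζ V)), by
    rw [zmultiplesHom_apply, natCast_zsmul, ← sec_pow, zetaU_pow, sec_one]⟩).comp
    AddEquiv.ulift.toAddMonoidHom

theorem mapV_natCast (V : S.Etale) (i : ℕ) :
    mapV hn ζ hζ V (ULift.up (i : ZMod n)) = sec V (zetaU hn ζ hζ V ^ i) := by
  rw [mapV, AddMonoidHom.comp_apply]
  have : AddEquiv.ulift.toAddMonoidHom (ULift.up.{u + 1} (i : ZMod n)) = ((i : ℤ) : ZMod n) :=
    (Int.cast_natCast i).symm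
  rw [this, ZMod.lift_coe]
  show (i : ℤ) • sec V (zetaU hn ζ hζ V) = _
  rw [natCast_zsmul, sec_pow]

include hn in
theorem exists_natCast (m : ULift.{u + 1} (ZMod n)) : ∃ i : ℕ, ULift.up (i : ZMod n) = m := by
  haveI : NeZero n := ⟨Nat.one_le_iff_ne_zero.mp hn⟩
  exact ⟨m.down.val, by rw [ZMod.natCast_zmod_val]⟩

theorem mapV_res {V W : S.Etale} (f : V ⟶ W) (m : ULift.{u + 1} (ZMod n)) :
    (EtCoh.Gm S).obj.map f.op (mapV hn ζ hζ W m) = mapV hn ζ hζ V m := by
  obtain ⟨i, rfl⟩ := exists_natCast hn m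
  rw [mapV_natCast, mapV_natCast, res_sec, map_pow, resU_zetaU]

/-- The constant presheaf `ℤ/n` mapping to `G_m`. -/
noncomputable def preHom :
    (Functor.const S.Etaleᵒᵖ).obj (AddCommGrpCat.of (ULift.{u + 1} (ZMod n))) ⟶
      (EtCoh.Gm S).obj where
  app V := AddCommGrpCat.ofHom (mapV hn ζ hζ V.unop)
  naturality V W f := by
    refine AddCommGrpCat.ext fun m => ?_
    exact (mapV_res hn ζ hζ f.unop m).symm

include hunit in
theorem mapV_injective (V : S.Etale) (h : Nonempty V.left) :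
    Function.Injective (mapV hn ζ hζ V) := by
  intro m m' e
  obtain ⟨x⟩ := h
  obtain ⟨i, rfl⟩ := exists_natCast hn m
  obtain ⟨j, rfl⟩ := exists_natCast hn m'
  rw [mapV_natCast, mapV_natCast] at e
  have e' : V.left.Γevaluation x ((zetaU hn ζ hζ V ^ i : Γ(V.left, ⊤)ˣ) : Γ(V.left, ⊤)) =
      V.left.Γevaluation x ((zetaU hn ζ hζ V ^ j : Γ(V.left, ⊤)ˣ) : Γ(V.left, ⊤)) := by
    rw [sec_injective V e]
  rw [Units.val_pow_eq_pow_val, Units.val_pow_eq_pow_val, map_pow, map_pow] at e'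
  have hp := isPrimitiveRoot_eval hn hunit ζ hζ V x
  rw [(hp.isOfFinOrder (Nat.one_le_iff_ne_zero.mp hn)).pow_inj_mod, ← hp.eq_orderOf] at e'
  exact congrArg ULift.up ((ZMod.natCast_eq_natCast_iff' i j n).mpr e')

include hunit in
theorem isLocallyInjective_preHom :
    Presheaf.IsLocallyInjective S.smallEtaleTopology (preHom hn ζ hζ) := by
  refine ⟨fun {V} m m' e => ?_⟩
  rw [mem_et_iff]
  exact fun x => ⟨V.unop, 𝟙 _, x, mapV_injective hn hunit ζ hζ V.unop ⟨x⟩ e, rfl⟩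

include hunit in
theorem exists_local (V : S.Etale) (a : Γ(V.left, ⊤)ˣ) (ha : a ^ n = 1) (x : V.left) :
    ∃ (Y : S.Etale) (f : Y ⟶ V) (y : Y.left) (m : ULift.{u + 1} (ZMod n)),
      f.left y = x ∧ mapV hn ζ hζ Y m = sec Y (resU f a) := by
  haveI : NeZero n := ⟨Nat.one_le_iff_ne_zero.mp hn⟩
  let ev := (V.left.Γevaluation x).hom
  have hev : ev (a : Γ(V.left, ⊤)) ^ n = 1 := by
    rw [← map_pow, ← Units.val_pow_eq_pow_val, ha, Units.val_one, map_one]
  obtain ⟨i, -, hi⟩ := (isPrimitiveRoot_eval hn hunit ζ hζ V x).eq_pow_of_pow_eq_one hev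
  let w : Γ(V.left, ⊤)ˣ := a / zetaU hn ζ hζ V ^ i
  have hw : ev (w : Γ(V.left, ⊤)) = 1 := by
    have : (w : Γ(V.left, ⊤)) * (zetaU hn ζ hζ V ^ i : Γ(V.left, ⊤)ˣ) = a := by
      rw [← Units.val_mul, div_mul_cancel]
    have h2 := congrArg ev this
    rw [map_mul, Units.val_pow_eq_pow_val, map_pow] at h2
    refine mul_right_cancel₀ (pow_ne_zero i
      ((isPrimitiveRoot_eval hn hunit ζ hζ V x).ne_zero (NeZero.ne n))) ?_
    rw [one_mul]
    exact h2.trans hi.symm
  let σ : Γ(V.left, ⊤) := ∑ j ∈ Finset.range n, (w : Γ(V.left, ⊤)) ^ j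
  have hσ : x ∈ V.left.basicOpen σ := by
    rw [← Scheme.evaluation_ne_zero_iff_mem_basicOpen V.left (U := (⊤ : V.left.Opens)) x trivial]
    show ev σ ≠ 0
    have hnK := (hunit.map (V.hom.appTop ≫ V.left.Γevaluation x).hom).ne_zero
    rw [map_natCast] at hnK
    rw [map_sum]
    simp only [map_pow, hw, one_pow, Finset.sum_const, Finset.card_range, nsmul_one]
    exact hnK
  let U : V.left.Opens := V.left.basicOpen σ
  let g : V.left ⟶ S := V.hom
  haveI : AlgebraicGeometry.Etale g := V.prop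
  let Y : S.Etale := Scheme.Etale.mk (U.ι ≫ g)
  let f : Y ⟶ V := MorphismProperty.Over.homMk U.ι rfl
  refine ⟨Y, f, ⟨x, hσ⟩, ULift.up (i : ZMod n), rfl, ?_⟩
  rw [mapV_natCast, ← resU_zetaU hn ζ hζ f, ← map_pow]
  refine congrArg (sec Y) (Units.ext ?_)
  have hwn : (w : Γ(V.left, ⊤)) ^ n = 1 := by
    rw [← Units.val_pow_eq_pow_val, div_pow, ha, ← pow_mul, mul_comm, pow_mul, zetaU_pow, one_pow,
      div_one, Units.val_one]
  have hσU : IsUnit (U.ι.appTop σ) := by
    rw [Scheme.Opens.ι_appTop]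
    have h := V.left.toRingedSpace.isUnit_res_basicOpen σ
    refine (?_ : IsUnit (V.left.presheaf.map (homOfLE le_top).op σ))
    have h' := h.map (V.left.presheaf.map (eqToHom (U.ι_image_top)).op).hom
    have e := ConcreteCategory.congr_hom (V.left.presheaf.map_comp
      (homOfLE (le_top : U ≤ ⊤)).op (eqToHom (U.ι_image_top)).op) σ
    exact (congrArg IsUnit e).mpr h'
  have h0 : U.ι.appTop (w : Γ(V.left, ⊤)) = 1 := by
    have := geom_sum_mul (w : Γ(V.left, ⊤)) n
    rw [hwn, sub_self] at this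
    have h' := congrArg U.ι.appTop this
    rw [map_zero, map_mul, map_sub, map_one] at h'
    exact sub_eq_zero.mp ((hσU.mul_right_eq_zero).mp h')
  show U.ι.appTop ((zetaU hn ζ hζ V ^ i : Γ(V.left, ⊤)ˣ) : Γ(V.left, ⊤)) = U.ι.appTop (a : Γ(V.left, ⊤))
  conv_rhs => rw [← div_mul_cancel a (zetaU hn ζ hζ V ^ i), Units.val_mul, map_mul, h0, one_mul]

include hn hunit hζ in
theorem nonempty_mu_iso : Nonempty (EtCoh.mu S n ≅ EtCoh.const S (ZMod n)) := by
  let J := S.smallEtaleTopology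
  let P := (Functor.const S.Etaleᵒᵖ).obj (AddCommGrpCat.of (ULift.{u + 1} (ZMod n)))
  let Φ : EtCoh.const S (ZMod n) ⟶ EtCoh.Gm S :=
    ⟨sheafifyLift J (preHom hn ζ hζ) (EtCoh.Gm S).property⟩
  have hΦ : toSheafify J P ≫ Φ.hom = preHom hn ζ hζ :=
    toSheafify_sheafifyLift J _ (EtCoh.Gm S).property
  have h0 : Φ ≫ EtCoh.powMap S n = 0 := by
    refine ObjectProperty.hom_ext _ (sheafify_hom_ext J _ _ (EtCoh.Gm S).property ?_)
    show toSheafify J P ≫ Φ.hom ≫ (EtCoh.powMap S n).hom = toSheafify J P ≫ 0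
    rw [reassoc_of% hΦ, CategoryTheory.Limits.comp_zero]
    refine NatTrans.ext (funext fun V => AddCommGrpCat.ext fun m => ?_)
    obtain ⟨i, rfl⟩ := exists_natCast hn m
    show (EtCoh.powMap S n).hom.app (op V.unop) (mapV hn ζ hζ V.unop _) = 0
    rw [mapV_natCast, powMap_sec, ← pow_mul, mul_comm, pow_mul, zetaU_pow, one_pow, sec_one]
  let k : EtCoh.const S (ZMod n) ⟶ EtCoh.mu S n := kernel.lift _ Φ h0
  have hk : k.hom ≫ (EtCoh.muι S n).hom = Φ.hom := congrArg (·.hom) (kernel.lift_ι _ Φ h0)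
  haveI : Presheaf.IsLocallyInjective J (toSheafify J P ≫ Φ.hom) := by
    rw [hΦ]; exact isLocallyInjective_preHom hn hunit ζ hζ
  haveI : Presheaf.IsLocallyInjective J Φ.hom :=
    (Presheaf.comp_isLocallyInjective_iff J (toSheafify J P) Φ.hom).mp inferInstance
  haveI : Presheaf.IsLocallyInjective J (k.hom ≫ (EtCoh.muι S n).hom) := by
    rw [hk]; infer_instance
  haveI : Sheaf.IsLocallyInjective k :=
    Presheaf.isLocallyInjective_of_isLocallyInjective J k.hom (EtCoh.muι S n).hom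
  haveI : Sheaf.IsLocallySurjective k := by
    refine ⟨fun {V} s => ?_⟩
    rw [mem_et_iff]
    intro x
    obtain ⟨a, ha⟩ := exists_sec V ((EtCoh.muι S n).hom.app (op V) s)
    have han : a ^ n = 1 := by
      refine sec_injective V ?_
      rw [← powMap_sec, ha, sec_one]
      exact ConcreteCategory.congr_hom (congrArg (fun φ => φ.hom.app (op V))
        (kernel.condition (EtCoh.powMap S n))) s
    obtain ⟨Y, f, y, m, hy, hm⟩ := exists_local hn hunit ζ hζ V a han x
    refine ⟨Y, f, y, ⟨(toSheafify J P).app (op Y) m, ?_⟩, hy⟩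
    haveI : Mono (EtCoh.muι S n) := inferInstanceAs (Mono (kernel.ι _))
    haveI : Mono (EtCoh.muι S n).hom :=
      inferInstanceAs (Mono ((sheafToPresheaf S.smallEtaleTopology AddCommGrpCat.{u + 1}).map (EtCoh.muι S n)))
    refine (AddCommGrpCat.mono_iff_injective ((EtCoh.muι S n).hom.app (op Y))).mp inferInstance ?_
    have e1 := ConcreteCategory.congr_hom (NatTrans.congr_app hk (op Y)) ((toSheafify J P).app (op Y) m)
    have e2 := ConcreteCategory.congr_hom (NatTrans.congr_app hΦ (op Y)) m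
    refine (e1.trans e2).trans ?_
    refine (hm.trans ?_).trans (NatTrans.naturality_apply (EtCoh.muι S n).hom f.op s).symm
    rw [← res_sec, ha]
  haveI : IsIso k := (Sheaf.isLocallyBijective_iff_isIso k).mp ⟨inferInstance, inferInstance⟩
  exact ⟨(asIso k).symm⟩

end Groth.Agent.Kummer24
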